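import Cfsg.Agent.H531.EP.TorFam
import Cfsg.Agent.H142.EP.T4
import Cfsg.Agent.H892.EP.Rows
import Cfsg.Agent.H163.Steinberg
import Cfsg.Agent.FixBN.SplitRGD
import Cfsg.Agent.S1054

/-!
# S4929: the row of `F₄(2)` (helper531)

* `cent_three`, `cent_five`, `cent_seven` : the centralizer of a Sylow `r`-subgroup of `F₄(2)` is an `r`-group, `r = 3, 5, 7`;
* `row_f42` : the row of S4929; `r = 13, 17` : cyclic Sylow subgroups, inverted in `F₄(2)`.
-/

set_option autoImplicit false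
set_option linter.unusedSectionVars false

namespace Cfsg.Agent.H531.EP

open CoxeterSystem Cfsg Cfsg.Lie Cfsg.Lie.ChevalleyDatum
open Cfsg.Agent.ChevalleyStructure Cfsg.Agent.ChevalleyStructure.Elts Cfsg.Agent.ChevalleyStructure.CoxeterGeom
  Cfsg.Agent.ChevalleyStructure.CoxeterGeomTypes Cfsg.Agent.ChevalleyStructure.NPerm
open Cfsg.Agent.Tits.Roots Cfsg.Agent.Tits.Core Cfsg.Agent.Nodes Cfsg.Agent.Nodes.Reps Cfsg.Agent.Nodes.BNOf
  Cfsg.Agent.Nodes.RGDChev Cfsg.Agent.Nodes.Bruhat Cfsg.Agent.Nodes.SubComb Cfsg.Agent.Nodes.Coroot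
open Cfsg.Agent.KFacts.RgdField Cfsg.Agent.KFacts.RgdChevCoord Cfsg.Agent.BpExc.TorCent Cfsg.Agent.BpExc.TorChev
open Cfsg.Agent.BpExc Cfsg.Agent.H129.TorusChar Cfsg.Agent.H130.WeylCk Cfsg.Agent.H130.WeylTab Cfsg.Agent.H720.RowsNeg
open Cfsg.Agent.Characters.Core Cfsg.Agent.H892.EP

universe u

/-- the quadratic form of the root lattice -/
def nm (x : Fin 4 → ℤ) : ℤ :=
  x 0 ^ 2 + x 1 ^ 2 + 2 * x 2 ^ 2 + 2 * x 3 ^ 2 - x 0 * x 1 - 2 * (x 1 * x 2) - 2 * (x 2 * x 3)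

/-- the linear form with coefficients `c` -/
def fn (r : ℕ) (c : Fin 4 → ℤ) : (Fin 4 → ℤ) →+ ZMod r :=
  AddMonoidHom.mk' (fun x => ((∑ j, c j * x j : ℤ) : ZMod r)) fun x y => by
    rw [← Int.cast_add, ← Finset.sum_add_distrib]
    congr 1
    exact Finset.sum_congr rfl fun j _ => by rw [Pi.add_apply, mul_add]

theorem fn_apply (r : ℕ) (c x : Fin 4 → ℤ) : fn r c x = ((∑ j, c j * x j : ℤ) : ZMod r) := rfl

theorem fn_zero_iff (r : ℕ) (c x : Fin 4 → ℤ) : fn r c x = 0 ↔ (r : ℤ) ∣ ∑ j, c j * x j := by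
  rw [fn_apply, ZMod.intCast_zmod_eq_zero_iff_dvd]

section Nm

variable {W : Type*} [Group W] (cs : CoxeterSystem CoxeterMatrix.F₄ W) (hp : IsType chevF4 4 CoxeterMatrix.F₄)

theorem nm_refl (i : Fin 4) (x : Fin 4 → ℤ) : nm (refl (cartanOf chevF4 4) i x) = nm x := by
  have hA : ∀ i j : Fin 4, cartanOf chevF4 4 i j = (alF4.getD i []).getD j 0 := fun i j => (lists_F4 i).2 j
  rw [refl_apply]
  unfold nm pairing
  simp only [Fin.sum_univ_four, hA]
  fin_cases i <;> simp [alF4] <;> ring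

theorem nm_rep (w : W) (x : Fin 4 → ℤ) : nm (rep cs hp.isCartan w x) = nm x := by
  obtain ⟨ω, rfl⟩ := cs.wordProd_surjective w
  induction ω with
  | nil => rw [CoxeterSystem.wordProd_nil, map_one, Module.End.one_apply]
  | cons i ω ih => rw [CoxeterSystem.wordProd_cons, rep_mul_apply, rep_simple, nm_refl, ih]

end Nm

/-- the check of the certificates -/
def Ck (r : ℕ) (L : List (Fin 4)) (n : ℕ) {m : ℕ} (c : Fin m → Fin 4 → ℤ) : Prop :=
  (∀ i : Fin m, ∀ j : Fin 4, (r : ℤ) ∣ ∑ s, c i s * toFn 4 (acn alF4 L n (bas 4 j)) s - 2 * c i j) ∧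
  (∀ a < 48, ∃ i : Fin m, ¬ (r : ℤ) ∣ ∑ s, c i s * vec chevF4 4 a s) ∧
  ∀ a < 48, ∀ j : Fin 4, (∀ i : Fin m, (r : ℤ) ∣ ∑ s, c i s * vec chevF4 4 a s - c i j) →
    nm (vec chevF4 4 a) = nm (Pi.single j 1) → vec chevF4 4 a = Pi.single j 1

instance (r : ℕ) (L : List (Fin 4)) (n : ℕ) {m : ℕ} (c : Fin m → Fin 4 → ℤ) : Decidable (Ck r L n c) := by
  unfold Ck; infer_instance

theorem ck_three : Ck 3 [0, 1, 2, 3] 6 ![![1, 0, 0, 0], ![0, 1, 0, 0], ![0, 0, 1, 0], ![0, 0, 0, 1]] := by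
  decide +kernel

theorem ck_five : Ck 5 [0, 1, 2, 3] 3 ![![0, 1, 1, 2], ![1, 0, 0, 1]] := by
  decide +kernel

theorem ck_seven : Ck 7 [0, 1, 2, 3] 4 ![![0, 1, 6, 2], ![1, 0, 2, 4]] := by
  decide +kernel

section Cent

variable {W : Type*} [Group W] [Finite W] (cs : CoxeterSystem CoxeterMatrix.F₄ W)
  (hp : IsType chevF4 4 CoxeterMatrix.F₄) {F : Type u} [Field F] [Fintype F] (hF : Fintype.card F = 2)

theorem ext_sr {A : Type*} [AddCommGroup A] {f g : (Fin 4 → ℤ) →+ A} (h : ∀ i, f (sr i) = g (sr i)) (x : Fin 4 → ℤ) :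
    f x = g x := by
  rw [IsMC.eq_sum_sr x, map_sum, map_sum]
  refine Finset.sum_congr rfl fun i _ => ?_
  rw [map_zsmul, map_zsmul, h i]

include hF

theorem cent_of_ck {r : ℕ} [Fact r.Prime] (h2 : ¬ r ∣ 2) {L : List (Fin 4)} {n m : ℕ} {c : Fin m → Fin 4 → ℤ}
    (hck : Ck r L n c)
    (h3 : ∀ φ : (Fin 4 → ℤ) → AlgebraicClosure F, IsMC φ →
      (∀ x, φ (rep cs hp.isCartan (cs.wordProd L ^ n) x) = φ x ^ 2) → ∀ x, φ x ^ r = 1)
    (P : Sylow r ↥(chevF4.group F)) :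
    ∀ x ∈ Subgroup.centralizer ((P : Subgroup ↥(chevF4.group F)) : Set ↥(chevF4.group F)), ∃ m : ℕ, x ^ r ^ m = 1 := by
  obtain ⟨k1, k2, k3⟩ := hck
  have h48 : chevF4.nroots = 48 := rfl
  refine TorFam.exists_self_cent hp cs hF invC_F4 (cs.wordProd L ^ n) h2 (fun i => fn r (c i)) (fun i x => ?_)
    (fun a ha => ?_) (fun v hv => ?_) h3 P
  · refine ext_sr (f := (fn r (c i)).comp (rep cs hp.isCartan (cs.wordProd L ^ n)).toAddMonoidHom)
      (g := (AddMonoidHom.mulLeft ((2 : ℕ) : ZMod r)).comp (fn r (c i))) (fun j => ?_) x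
    show fn r (c i) (rep cs hp.isCartan (cs.wordProd L ^ n) (sr j)) = ((2 : ℕ) : ZMod r) * fn r (c i) (sr j)
    rw [rep_word lists_F4 cs hp.isCartan L n j, fn_apply, fn_apply]
    have h5 := k1 i j
    have h6 : ∑ s, c i s * (sr j : Fin 4 → ℤ) s = c i j := by
      rw [Finset.sum_eq_single j]
      · rw [sr_self, mul_one]
      · intro b _ hb
        rw [sr_ne hb, mul_zero]
      · intro hj
        exact absurd (Finset.mem_univ j) hj
    rw [h6]
    have h7 := (ZMod.intCast_zmod_eq_zero_iff_dvd _ r).2 h5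
    rw [Int.cast_sub, sub_eq_zero] at h7
    rw [h7]
    push_cast
    rfl
  · obtain ⟨b, hb, rfl⟩ := (isRoot_iff hp cs a).1 ha
    obtain ⟨i, hi⟩ := k2 b (h48 ▸ hb)
    exact ⟨i, fun h5 => hi ((fn_zero_iff r _ _).1 h5)⟩
  · refine CoxeterGeom.eq_one_of_fix cs hp.isCartan v fun j => ?_
    obtain ⟨b, hb, hbv⟩ := (isRoot_iff hp cs _).1 ((isRoot_sr cs hp.isCartan j).act v)
    have hsr : (sr j : Fin 4 → ℤ) = Pi.single j 1 := rfl
    rw [hsr] at hbv
    rw [← hbv]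
    refine k3 b (h48 ▸ hb) j (fun i => ?_) ?_
    · have h5 := hv i _ (isRoot_sr cs hp.isCartan j)
      rw [hsr, ← hbv, fn_apply, fn_apply, ← sub_eq_zero, ← Int.cast_sub, ZMod.intCast_zmod_eq_zero_iff_dvd] at h5
      have h6 : ∑ s, c i s * (Pi.single j 1 : Fin 4 → ℤ) s = c i j := by
        rw [Finset.sum_eq_single j]
        · rw [Pi.single_eq_same, mul_one]
        · intro b _ hb
          rw [Pi.single_eq_of_ne hb, mul_zero]
        · intro hj
          exact absurd (Finset.mem_univ j) hj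
      rwa [h6] at h5
    · rw [hbv, nm_rep cs hp]

theorem cent_three (P : Sylow 3 ↥(chevF4.group F)) :
    ∀ x ∈ Subgroup.centralizer ((P : Subgroup ↥(chevF4.group F)) : Set ↥(chevF4.group F)), ∃ m : ℕ, x ^ 3 ^ m = 1 := by
  have hp : IsType chevF4 4 CoxeterMatrix.F₄ := by simp [IsType, typeList]
  have cs := CoxeterMatrix.F₄.toCoxeterSystem
  have : Finite CoxeterMatrix.F₄.Group := finite_W hp cs
  refine cent_of_ck cs hp hF (by norm_num) ck_three (fun φ hφ h x => ?_) P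
  have h1 : rep cs hp.isCartan (cs.wordProd [0, 1, 2, 3] ^ 6) x = -x := by
    refine ext_sr (f := (rep cs hp.isCartan (cs.wordProd [0, 1, 2, 3] ^ 6)).toAddMonoidHom)
      (g := -AddMonoidHom.id _) (fun j => ?_) x
    show rep cs hp.isCartan (cs.wordProd [0, 1, 2, 3] ^ 6) (sr j) = -(sr j)
    rw [rep_word lists_F4 cs hp.isCartan _ _ j]
    revert j
    decide +kernel
  have h2 := h x
  rw [h1] at h2
  rw [pow_succ, ← h2, mul_comm]
  exact hφ.neg_mul x

theorem cent_five (P : Sylow 5 ↥(chevF4.group F)) :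
    ∀ x ∈ Subgroup.centralizer ((P : Subgroup ↥(chevF4.group F)) : Set ↥(chevF4.group F)), ∃ m : ℕ, x ^ 5 ^ m = 1 := by
  have hp : IsType chevF4 4 CoxeterMatrix.F₄ := by simp [IsType, typeList]
  have cs := CoxeterMatrix.F₄.toCoxeterSystem
  have : Finite CoxeterMatrix.F₄.Group := finite_W hp cs
  refine cent_of_ck cs hp hF (by norm_num) ck_five (fun φ hφ h x => ?_) P
  have h1 : rep cs hp.isCartan (cs.wordProd [0, 1, 2, 3] ^ 3) (rep cs hp.isCartan (cs.wordProd [0, 1, 2, 3] ^ 3) x) =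
      -x := by
    rw [← rep_mul_apply, ← pow_add]
    refine ext_sr (f := (rep cs hp.isCartan (cs.wordProd [0, 1, 2, 3] ^ (3 + 3))).toAddMonoidHom)
      (g := -AddMonoidHom.id _) (fun j => ?_) x
    show rep cs hp.isCartan (cs.wordProd [0, 1, 2, 3] ^ (3 + 3)) (sr j) = -(sr j)
    rw [rep_word lists_F4 cs hp.isCartan _ _ j]
    revert j
    decide +kernel
  have h2 := h (rep cs hp.isCartan (cs.wordProd [0, 1, 2, 3] ^ 3) x)
  rw [h1, h x, ← pow_mul] at h2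
  have h3 := hφ.neg_mul x
  rw [h2, ← pow_succ'] at h3
  exact h3

theorem cent_seven (P : Sylow 7 ↥(chevF4.group F)) :
    ∀ x ∈ Subgroup.centralizer ((P : Subgroup ↥(chevF4.group F)) : Set ↥(chevF4.group F)), ∃ m : ℕ, x ^ 7 ^ m = 1 := by
  have hp : IsType chevF4 4 CoxeterMatrix.F₄ := by simp [IsType, typeList]
  have cs := CoxeterMatrix.F₄.toCoxeterSystem
  have : Finite CoxeterMatrix.F₄.Group := finite_W hp cs
  refine cent_of_ck cs hp hF (by norm_num) ck_seven (fun φ hφ h x => ?_) P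
  have h1 : rep cs hp.isCartan (cs.wordProd [0, 1, 2, 3] ^ 4) (rep cs hp.isCartan (cs.wordProd [0, 1, 2, 3] ^ 4) x) +
      rep cs hp.isCartan (cs.wordProd [0, 1, 2, 3] ^ 4) x + x = 0 := by
    rw [← rep_mul_apply, ← pow_add]
    refine ext_sr (f := (rep cs hp.isCartan (cs.wordProd [0, 1, 2, 3] ^ (4 + 4))).toAddMonoidHom +
      (rep cs hp.isCartan (cs.wordProd [0, 1, 2, 3] ^ 4)).toAddMonoidHom + AddMonoidHom.id _)
      (g := 0) (fun j => ?_) x
    show rep cs hp.isCartan (cs.wordProd [0, 1, 2, 3] ^ (4 + 4)) (sr j) +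
      rep cs hp.isCartan (cs.wordProd [0, 1, 2, 3] ^ 4) (sr j) + sr j = 0
    rw [rep_word lists_F4 cs hp.isCartan _ _ j, rep_word lists_F4 cs hp.isCartan _ _ j]
    revert j
    decide +kernel
  have h2 := h (rep cs hp.isCartan (cs.wordProd [0, 1, 2, 3] ^ 4) x)
  have h3 := congrArg φ h1
  rw [hφ.add, hφ.add, h2, h x, hφ.zero, ← pow_mul, ← pow_add, ← pow_succ] at h3
  exact h3

end Cent

/-- the Steinberg character -/
theorem exists_st {F : Type u} [Field F] [Fintype F] (hF : Fintype.card F = 2) :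
    ∃ χ : IrrCharacter ↥(chevF4.group F), ∃ e : ℕ, 0 < e ∧ charDegree (χ : ↥(chevF4.group F) → ℂ) = 2 ^ e := by
  have hp2 : Fact (Nat.Prime 2) := ⟨Nat.prime_two⟩
  have hch : CharP F 2 := by
    obtain ⟨p, hp'⟩ := CharP.exists F
    have h1 : Fact p.Prime := ⟨CharP.char_is_prime F p⟩
    obtain ⟨n, h2, h3⟩ := FiniteField.card F p
    rw [hF] at h3
    have h4 : p ∣ 2 := h3 ▸ dvd_pow_self p n.ne_zero
    rwa [(Nat.prime_dvd_prime_iff_eq h2 Nat.prime_two).1 h4] at hp'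
  have hs : IsSimpleGroup ↥(chevF4.group F) := (Cfsg.Agent.S1054.result chevF4 (by simp)).1
  have hp : IsType chevF4 4 CoxeterMatrix.F₄ := by simp [IsType, typeList]
  have hW := finite_W hp CoxeterMatrix.F₄.toCoxeterSystem
  have R := rgd (K := F) hp CoxeterMatrix.F₄.toCoxeterSystem 2
  obtain ⟨χ, hχ, hst⟩ := H163.Steinberg.exists_irr_of_hasSplit (FixBN.SplitRGD.hasSplit_of_rgd Nat.prime_two R (by
    rw [eq_top_iff, ← G1_eq_top hp CoxeterMatrix.F₄.toCoxeterSystem]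
    exact RGDLib.rgd_G1_le R))
  have Q : Sylow 2 ↥(chevF4.group F) := default
  have k1 := (hst Q).1
  obtain ⟨e, he⟩ := (IsPGroup.iff_card (p := 2)).1 Q.2
  have k2 : charDegree χ = Nat.card Q := by
    have h1 := Cfsg.Agent.Blocks.Basic.irr_one_eq_charDegree hχ
    rw [k1] at h1
    exact_mod_cast h1.symm
  refine ⟨⟨χ, hχ⟩, e, ?_, k2.trans he⟩
  rcases Nat.eq_zero_or_pos e with rfl | h
  · exfalso
    rw [pow_zero] at he
    have h2 : 2 ∣ Nat.card ↥(chevF4.group F) := by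
      rw [Cfsg.Agent.S1062.result hF]
      norm_num
    have h3 := Q.dvd_card_of_dvd_card h2
    rw [he] at h3
    norm_num at h3
  · exact h

/-- the order is divisible by the first power of `r` only -/
theorem cyclic_of {G : Type*} [Group G] [Finite G] {r : ℕ} [Fact r.Prime] (h : ¬ r ^ 2 ∣ Nat.card G) (P : Sylow r G) :
    IsCyclic (P : Subgroup G) := by
  obtain ⟨k, hk⟩ := P.isPGroup'.exists_card_eq
  have h1 : r ^ k ∣ Nat.card G := by
    rw [← hk]
    exact Subgroup.card_subgroup_dvd_card _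
  have h2 : k < 2 := by
    by_contra hk2
    exact h ((pow_dvd_pow r (not_lt.1 hk2)).trans h1)
  interval_cases k
  · have := (Nat.card_eq_one_iff_unique.1 hk).1
    exact isCyclic_of_subsingleton
  · exact isCyclic_of_prime_card (by rw [hk, pow_one])

/-- `r = 13, 17` -/
theorem evAt_cyc {F : Type} [Field F] [Fintype F] (hF : Fintype.card F = 2) {r : ℕ} [hr : Fact r.Prime] (hr2 : r ≠ 2)
    (hW : ¬ r ∣ [2, 6, 8, 12].prod) (hd : r ∣ Nat.card ↥(chevF4.group F)) (hs : ¬ r ^ 2 ∣ Nat.card ↥(chevF4.group F)) :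
    EvAt r ↥(chevF4.group F) := by
  obtain ⟨z, hz⟩ := exists_prime_orderOf_dvd_card' (G := ↥(chevF4.group F)) r hd
  refine evAt_of_real_cyclic hr2 (fun P => cyclic_of hs P) hz ?_
  have hz1 : IsPGroup r (Subgroup.zpowers z) := by
    refine IsPGroup.of_card (n := 1) ?_
    rw [Nat.card_zpowers, hz, pow_one]
  obtain ⟨P, hP⟩ := hz1.exists_le_sylow
  have h2 : ¬ r ∣ 2 := by
    intro h
    exact hr2 ((Nat.prime_dvd_prime_iff_eq hr.out Nat.prime_two).1 h)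
  obtain ⟨y, hy⟩ := H720.SylInv.F4 hF h2 hW P
  exact isConj_iff.2 ⟨y, hy z (hP (Subgroup.mem_zpowers z))⟩

/-- **The row of `F₄(2)`.** -/
theorem row_f42 : ∀ (F : Type) [Field F] [Fintype F], Fintype.card F = 2 → Ev ↥(Lie.chevF4.group F) := by
  intro F _ _ hF p hp hp2 hd
  have hpF : Fact p.Prime := ⟨hp⟩
  have hcard : Nat.card ↥(chevF4.group F) = 2 ^ 24 * 3 ^ 6 * 5 ^ 2 * 7 ^ 2 * 13 * 17 := by
    rw [Cfsg.Agent.S1062.result hF]
    norm_num
  obtain ⟨χ, e, he, hχ⟩ := exists_st hF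
  have hdeg : ∀ r : ℕ, r.Prime → r ≠ 2 → ¬ r ∣ charDegree (χ : ↥(chevF4.group F) → ℂ) := by
    intro r hr hr2 h
    rw [hχ] at h
    exact hr2 ((Nat.prime_dvd_prime_iff_eq hr Nat.prime_two).1 (hr.dvd_of_dvd_pow h))
  have heven : 2 ∣ charDegree (χ : ↥(chevF4.group F) → ℂ) := by
    rw [hχ]
    exact dvd_pow_self 2 he.ne'
  have hd' := hd
  rw [hcard] at hd'
  have h2 : p = 2 ∨ p = 3 ∨ p = 5 ∨ p = 7 ∨ p = 13 ∨ p = 17 := by
    rw [hp.dvd_mul, hp.dvd_mul, hp.dvd_mul, hp.dvd_mul, hp.dvd_mul] at hd'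
    rcases hd' with ((((h | h) | h) | h) | h) | h
    · exact Or.inl ((Nat.prime_dvd_prime_iff_eq hp Nat.prime_two).1 (hp.dvd_of_dvd_pow h))
    · exact Or.inr (Or.inl ((Nat.prime_dvd_prime_iff_eq hp Nat.prime_three).1 (hp.dvd_of_dvd_pow h)))
    · exact Or.inr (Or.inr (Or.inl ((Nat.prime_dvd_prime_iff_eq hp Nat.prime_five).1 (hp.dvd_of_dvd_pow h))))
    · exact Or.inr (Or.inr (Or.inr (Or.inl ((Nat.prime_dvd_prime_iff_eq hp Nat.prime_seven).1 (hp.dvd_of_dvd_pow h)))))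
    · exact Or.inr (Or.inr (Or.inr (Or.inr (Or.inl ((Nat.prime_dvd_prime_iff_eq hp (by norm_num)).1 h)))))
    · exact Or.inr (Or.inr (Or.inr (Or.inr (Or.inr ((Nat.prime_dvd_prime_iff_eq hp (by norm_num)).1 h)))))
  have P : Sylow p ↥(chevF4.group F) := default
  rcases h2 with rfl | rfl | rfl | rfl | rfl | rfl
  · exact absurd rfl hp2
  · exact H142.EP.evAt_of_centralizer P (cent_three hF P) χ heven (hdeg 3 hp hp2)
  · exact H142.EP.evAt_of_centralizer P (cent_five hF P) χ heven (hdeg 5 hp hp2)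
  · exact H142.EP.evAt_of_centralizer P (cent_seven hF P) χ heven (hdeg 7 hp hp2)
  · exact evAt_cyc hF hp2 (by norm_num) hd (by rw [hcard]; norm_num)
  · exact evAt_cyc hF hp2 (by norm_num) hd (by rw [hcard]; norm_num)

end Cfsg.Agent.H531.EP
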